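import Groth.Agent.DCX42.RHomCohBound

/-!
# `RHom(-, I)` into a bounded complex of injectives
-/

set_option autoImplicit false
set_option linter.style.haveILetI false
set_option backward.isDefEq.respectTransparency.types false
set_option maxHeartbeats 400000

noncomputable section

universe u

open CategoryTheory Limits AlgebraicGeometry Pretriangulated DerivedCategory

attribute [local instance] HasDerivedCategory.standard

namespace Groth.Agent.RHomUp93

open Groth.Agent.Mod48 Groth.Agent.DCX42 Groth.Agent.DCX42.RHomCalc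

variable {X : Scheme.{u}}

attribute [local instance] hasLT hasRSheafHom

/-- no maps from above into a bounded complex of injectives -/
theorem hom_eq_zero (I : CochainComplex X.Modules ℤ) (hI : ∀ i, Injective (I.X i)) (a b : ℤ)
    (hb : ∀ i, i < a ∨ b < i → IsZero (I.X i)) (M : DCoh.D X) (p : ℤ) [M.IsGE p] (hp : b < p)
    (φ : M ⟶ Q.obj I) : φ = 0 := by
  obtain ⟨M', hM', ⟨e⟩⟩ := DerivedCategory.exists_iso_Q_obj_of_isGE M p
  haveI := hI
  haveI : I.IsStrictlyGE a := (CochainComplex.isStrictlyGE_iff _ _).2 fun i hi => hb i (Or.inl hi)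
  haveI := CochainComplex.isKInjective_of_injective I a
  let ψ' : DerivedCategory.Qh.obj ((HomotopyCategory.quotient _ _).obj M') ⟶
      DerivedCategory.Qh.obj ((HomotopyCategory.quotient _ _).obj I) :=
    (quotientCompQhIso X.Modules).hom.app M' ≫ e.inv ≫ φ ≫ (quotientCompQhIso X.Modules).inv.app I
  obtain ⟨g, hg⟩ := (CochainComplex.IsKInjective.Qh_map_bijective
    ((HomotopyCategory.quotient _ _).obj M') I).2 ψ'
  obtain ⟨g, rfl⟩ := (HomotopyCategory.quotient _ _).map_surjective g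
  have h0 : g = 0 := by
    refine HomologicalComplex.hom_ext _ _ fun i => ?_
    by_cases hi : i < p
    · exact (M'.isZero_of_isStrictlyGE p i hi).eq_of_src _ _
    · exact (hb i (Or.inr (by omega))).eq_of_tgt _ _
  rw [h0, Functor.map_zero, Functor.map_zero] at hg
  have h2 : e.inv ≫ φ = 0 := by
    rw [← cancel_mono ((quotientCompQhIso X.Modules).inv.app I),
      ← cancel_epi ((quotientCompQhIso X.Modules).hom.app M'), Category.assoc]
    simpa [ψ'] using hg.symm
  rw [← cancel_epi e.inv, h2, comp_zero]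

/-- `RHom(C, I)` vanishes in high degrees, for `C` bounded below. -/
theorem isZero_HD_RH_high (I : CochainComplex X.Modules ℤ) (hI : ∀ i, Injective (I.X i)) (a b : ℤ)
    (hb : ∀ i, i < a ∨ b < i → IsZero (I.X i)) (C : CochainComplex X.Modules ℤ) (c j : ℤ) [(Q.obj C).IsGE c]
    (hj : b < j + c) : IsZero (DCoh.HD ((DCoh.RSheafHom C).obj (Q.obj I)) j) := by
  obtain ⟨C', hC', ⟨e⟩⟩ := DerivedCategory.exists_iso_Q_obj_of_isGE (Q.obj C) c
  obtain ⟨i⟩ := nonempty_rhIso e (Q.obj I)
  refine IsZero.of_iso ?_ ((DerivedCategory.homologyFunctor X.Modules j).mapIso i)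
  let Φ : LocGen (Opens.grothendieckTopology X) X.Modules := modGen X.sheaf
  refine Φ.detect fun U t => ?_
  obtain ⟨S, hS, hlift⟩ := Φ.ev_locally_surjective t
  refine Φ.sep t S hS fun V g hg => ?_
  obtain ⟨x, hx⟩ := hlift g hg
  suffices h0 : ((DCoh.RSheafHomAdj C').homEquiv _ (Q.obj I)).symm x = 0 by
    rw [← hx]
    have : x = 0 := by
      haveI := QExact41.TriLike.additive (QExact41.triLike_LTensorCx C')
      apply ((DCoh.RSheafHomAdj C').homEquiv _ (Q.obj I)).symm.injective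
      rw [h0, Adjunction.homEquiv_counit (g := 0), Functor.map_zero, zero_comp]
    rw [this, LocGen.ev, Functor.map_zero, comp_zero]
  let P := (HomologicalComplex.single X.Modules (ComplexShape.up ℤ) j).obj (Φ.P V)
  have hP : DCoh.IsKFlat P := isKFlat_single_shift (O := X.sheaf) (isFlat_freeOn (O := X.sheaf) V) j
  haveI := isIso_cn C' P hP
  haveI : ((DCoh.tensorCx.obj P).obj C').IsStrictlyGE (j + c) := by
    rw [CochainComplex.isStrictlyGE_iff]
    intro k hk
    refine FlatModel41.isZero_tc_X (O := X.sheaf) k fun p q hpq => ?_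
    by_cases hp : p = j
    · exact Or.inr (C'.isZero_of_isStrictlyGE c q (by omega))
    · exact Or.inl (HomologicalComplex.isZero_single_obj_X _ j _ p hp)
  haveI : ((DCoh.tensorCxQ C').obj P).IsGE (j + c) :=
    (DerivedCategory.isGE_Q_obj_iff ((DCoh.tensorCx.obj P).obj C') _).2 inferInstance
  haveI : ((DCoh.LTensorCx C').obj (Q.obj P)).IsGE (j + c) :=
    DerivedCategory.TStructure.t.isGE_of_iso (asIso ((cn C').app P)).symm _
  exact hom_eq_zero I hI a b hb _ (j + c) hj _

/-- the truncation triangle -/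
theorem exists_triPair (L : CochainComplex X.Modules ℤ) (n : ℤ) :
    ∃ (A B : CochainComplex X.Modules ℤ) (u : A ⟶ L) (v : L ⟶ B), TriPair u v ∧ (Q.obj A).IsLE n ∧
      (Q.obj B).IsGE (n + 1) ∧ ∀ i ≤ n, IsIso ((DerivedCategory.homologyFunctor X.Modules i).map (Q.map u)) := by
  have h := L.shortComplexTruncLE_shortExact n
  let q := L.shortComplexTruncLEX₃ToTruncGE n (n + 1) rfl
  haveI hq : IsIso (Q.map q) := (DerivedCategory.isIso_Q_map_iff_quasiIso _ q).2 inferInstance
  refine ⟨L.truncLE n, L.truncGE (n + 1), L.ιTruncLE n, L.πTruncGE (n + 1),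
    ⟨@inv _ _ _ _ (Q.map q) hq ≫ (triangleOfSES h).mor₃, isomorphic_distinguished _ (triangleOfSES_distinguished h) _
      (Iso.symm (Triangle.isoMk _ _ (Iso.refl _) (Iso.refl _) (@asIso _ _ _ _ (Q.map q) hq) ?_ ?_ ?_))⟩,
    (DerivedCategory.isLE_Q_obj_iff _ _).2 inferInstance, (DerivedCategory.isGE_Q_obj_iff _ _).2 inferInstance,
    fun i hi => ?_⟩
  · exact (Category.comp_id _).trans (Category.id_comp _).symm
  · exact (Q.map_comp _ _).symm.trans
      ((congrArg Q.map (L.g_shortComplexTruncLEX₃ToTruncGE n (n + 1) rfl)).trans (Category.id_comp _).symm)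
  · refine (congrArg ((triangleOfSES h).mor₃ ≫ ·)
      ((shiftFunctor (DerivedCategory X.Modules) (1 : ℤ)).map_id (triangleOfSES h).obj₁)).trans ?_
    exact (Category.comp_id _).trans (@IsIso.hom_inv_id_assoc _ _ _ _ (Q.map q) hq _ (triangleOfSES h).mor₃).symm
  · haveI : QuasiIsoAt (L.ιTruncLE n) i := L.quasiIsoAt_ιTruncLE n i hi
    have := (quasiIsoAt_iff_isIso_homologyMap (L.ιTruncLE n) i).1 inferInstance
    exact (NatIso.isIso_map_iff (DerivedCategory.homologyFunctorFactors X.Modules i) _).2 this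

/-- coherence of `H^j RHom(L[1], I)` for any complex with coherent cohomology -/
theorem isCoh_HD_RH_shift [IsLocallyNoetherian X] (I : CochainComplex X.Modules ℤ) (hI : ∀ i, Injective (I.X i))
    (a b : ℤ) (hb : ∀ i, i < a ∨ b < i → IsZero (I.X i)) (hIc : DCoh.IsCohD (Q.obj I))
    (L : CochainComplex X.Modules ℤ) (hL : DCoh.IsCohD (Q.obj L)) (j : ℤ) :
    Coh.IsCoh (DCoh.HD ((DCoh.RSheafHom (L⟦(1 : ℤ)⟧)).obj (Q.obj I)) j) := by
  let n := b - j + 1
  obtain ⟨A, B, u, v, hT, hA, hB, hiso⟩ := exists_triPair L n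
  obtain ⟨δ, hδ⟩ := hT
  haveI := hA; haveI := hB
  -- the cone of `v` is `A[1]`
  let T := isoTriangleOfIso₁₂ _ _ (DerivedCategory.mappingCone_triangle_distinguished v)
    (rot_of_distTriang _ hδ) (Iso.refl _) (Iso.refl _) ((Category.comp_id _).trans (Category.id_comp _).symm)
  let eC : Q.obj (CochainComplex.mappingCone v) ≅ (Q.obj A)⟦(1 : ℤ)⟧ := Triangle.π₃.mapIso T
  haveI : ((Q.obj A)⟦(1 : ℤ)⟧).IsLE (n - 1) :=
    DerivedCategory.TStructure.t.isLE_shift (Q.obj A) n 1 (n - 1) (by omega)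
  haveI : (Q.obj (CochainComplex.mappingCone v)).IsLE (n - 1) :=
    DerivedCategory.TStructure.t.isLE_of_iso eC.symm _
  have hAc : DCoh.IsCohD (Q.obj A) := fun i => by
    by_cases hi : i ≤ n
    · haveI := hiso i hi
      exact QC70.isCoh_of_iso (asIso ((DerivedCategory.homologyFunctor X.Modules i).map (Q.map u))).symm (hL i)
    · exact QC70.isCoh_of_isZero (DerivedCategory.isZero_of_isLE _ n i (by omega))
  have hCc : DCoh.IsCohD (Q.obj (CochainComplex.mappingCone v)) := fun i =>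
    QC70.isCoh_of_iso ((DerivedCategory.homologyFunctor X.Modules i).mapIso eC).symm (isCohD_shift hAc 1 i)
  haveI : (Q.obj I).IsGE a := by
    haveI : I.IsStrictlyGE a := (CochainComplex.isStrictlyGE_iff _ _).2 fun i hi => hb i (Or.inl hi)
    exact (DerivedCategory.isGE_Q_obj_iff I a).2 inferInstance
  have hC := isCohD_RH (CochainComplex.mappingCone v) (n - 1) hCc (Q.obj I) a hIc j
  haveI : ((Q.obj B)⟦(1 : ℤ)⟧).IsGE n :=
    DerivedCategory.TStructure.t.isGE_shift (Q.obj B) (n + 1) 1 n (by omega)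
  haveI : (Q.obj (B⟦(1 : ℤ)⟧)).IsGE n :=
    @Triangulated.TStructure.isGE_of_iso _ _ _ _ _ _ _ DerivedCategory.TStructure.t _ _
      ((Q.commShiftIso (1 : ℤ)).app B).symm _ (by assumption)
  let φ := (DerivedCategory.homologyFunctor X.Modules j).map ((rhMap (coneMap v)).app (Q.obj I))
  haveI : Epi φ := (exact_HD (triPair_coneMap v) (Q.obj I) j).epi_f
    ((isZero_HD_RH_high I hI a b hb B (n + 1) j (by omega)).eq_of_tgt _ _)
  haveI : Mono φ := (exact_HD (triPair_shift v) (Q.obj I) j).mono_g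
    ((isZero_HD_RH_high I hI a b hb (B⟦(1 : ℤ)⟧) n j (by omega)).eq_of_src _ _)
  haveI : IsIso φ := isIso_of_mono_of_epi φ
  exact QC70.isCoh_of_iso (asIso φ).symm hC

/-- coherence of `H^j RHom(L, I)` -/
theorem isCoh_HD_RH [IsLocallyNoetherian X] (I : CochainComplex X.Modules ℤ) (hI : ∀ i, Injective (I.X i))
    (a b : ℤ) (hb : ∀ i, i < a ∨ b < i → IsZero (I.X i)) (hIc : DCoh.IsCohD (Q.obj I))
    (L : CochainComplex X.Modules ℤ) (hL : DCoh.IsCohD (Q.obj L)) (j : ℤ) :
    Coh.IsCoh (DCoh.HD ((DCoh.RSheafHom L).obj (Q.obj I)) j) := by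
  have hL' : DCoh.IsCohD (Q.obj (L⟦(-1 : ℤ)⟧)) := fun i =>
    QC70.isCoh_of_iso ((DerivedCategory.homologyFunctor X.Modules i).mapIso ((Q.commShiftIso (-1 : ℤ)).app L)).symm
      (isCohD_shift hL (-1) i)
  obtain ⟨e⟩ := nonempty_rhIso
    (Q.mapIso ((shiftFunctorCompIsoId (CochainComplex X.Modules ℤ) (-1 : ℤ) 1 (by omega)).app L)) (Q.obj I)
  exact QC70.isCoh_of_iso ((DerivedCategory.homologyFunctor X.Modules j).mapIso e)
    (isCoh_HD_RH_shift I hI a b hb hIc _ hL' j)

end Groth.Agent.RHomUp93
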